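import Mathlib.RingTheory.Nakayama
import Mathlib.RingTheory.LocalRing.RingHom.Basic
import Mathlib.RingTheory.Noetherian.Basic
import Mathlib.LinearAlgebra.Matrix.NonsingularInverse
import Mathlib.LinearAlgebra.FiniteDimensional.Lemmas
import Mathlib.RingTheory.Ideal.Cotangent
import Mathlib.Tactic.LinearCombination

/-!
# Algebra for the local analysis of the zeros (S15230, SUB-LOC2)
-/

set_option autoImplicit false

open IsLocalRing

namespace K363.LocAlg

section mat

variable {O : Type*} [CommRing O] [IsLocalRing O] {n : ℕ}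

/-- A matrix over a local ring which is diagonal with units modulo the maximal ideal is invertible. -/
theorem isUnit_det (A : Matrix (Fin n) (Fin n) O) (h1 : ∀ j, IsUnit (A j j))
    (h2 : ∀ i j, i ≠ j → A i j ∈ maximalIdeal O) : IsUnit A.det := by
  have h3 : residue O A.det = ∏ i, residue O (A i i) := by
    rw [RingHom.map_det]
    have h4 : (residue O).mapMatrix A = Matrix.diagonal fun i => residue O (A i i) := by
      ext i j
      by_cases hij : i = j
      · subst hij
        simp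
      · rw [Matrix.diagonal_apply_ne _ hij]
        simpa using h2 i j hij
    rw [h4, Matrix.det_diagonal]
  have h5 : residue O A.det ≠ 0 := by
    rw [h3, Finset.prod_ne_zero_iff]
    intro i _ h6
    exact (mem_maximalIdeal _).1 ((residue_eq_zero_iff _).1 h6) (h1 i)
  by_contra h6
  exact h5 ((residue_eq_zero_iff _).2 h6)

/-- The solution of the linear system. -/
theorem exists_sol (A : Matrix (Fin n) (Fin n) O) (h1 : ∀ j, IsUnit (A j j))
    (h2 : ∀ i j, i ≠ j → A i j ∈ maximalIdeal O) (F : Fin n → O) (hF : ∀ j, F j ∈ maximalIdeal O) :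
    ∃ c : Fin n → O, (∀ j, F j = ∑ r, c r * A j r) ∧ (∀ r, c r ∈ maximalIdeal O) ∧
      ∀ j, F j - c j * A j j ∈ maximalIdeal O ^ 2 := by
  have hA := isUnit_det A h1 h2
  let c : Fin n → O := (A⁻¹).mulVec F
  have hc : A.mulVec c = F := by
    rw [Matrix.mulVec_mulVec, Matrix.mul_nonsing_inv A hA, Matrix.one_mulVec]
  have hc1 : ∀ j, F j = ∑ r, c r * A j r := by
    intro j
    rw [← hc]
    simp only [Matrix.mulVec, dotProduct]
    exact Finset.sum_congr rfl fun r _ => mul_comm _ _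
  have hcm : ∀ r, c r ∈ maximalIdeal O := by
    intro r
    simp only [c, Matrix.mulVec, dotProduct]
    exact Ideal.sum_mem _ fun i _ => Ideal.mul_mem_left _ _ (hF i)
  refine ⟨c, hc1, hcm, fun j => ?_⟩
  have h3 : F j - c j * A j j = ∑ r ∈ Finset.univ.erase j, c r * A j r := by
    rw [hc1 j, ← Finset.add_sum_erase _ _ (Finset.mem_univ j)]
    ring
  rw [h3]
  refine Ideal.sum_mem _ fun r hr => ?_
  rw [pow_two]
  exact Ideal.mul_mem_mul (hcm r) (h2 j r (Finset.ne_of_mem_erase hr).symm)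

end mat

/-- The algebraic core of the local analysis. -/
theorem core {O V k : Type*} [CommRing O] [IsLocalRing O] [IsNoetherianRing O] {n : ℕ}
    [Field k] (κ : k →+* O) (F : Fin n → V → O) (ε : V → k) (e : Fin n → V) (v : Fin n → V)
    (I : Ideal O) (p : Fin n → O)
    (hI : ∀ (w : V) (c : Fin n → O), (∀ j, F j w = ∑ r, c r * F j (e r)) →
      κ (ε w) - ∑ r, c r * κ (ε (e r)) ∈ I)
    (he1 : ∀ j, IsUnit (F j (e j))) (he2 : ∀ i j, i ≠ j → F j (e i) ∈ maximalIdeal O)
    (heε : ∀ i, ε (e i) ≠ 0) (hvε : ∀ i, ε (v i) = 0)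
    (hp : ∀ i, p i ∈ maximalIdeal O)
    (hv1 : ∀ i, F i (v i) - p i ∈ maximalIdeal O ^ 2)
    (hv2 : ∀ i j, i ≠ j → F j (v i) ∈ maximalIdeal O ^ 2)
    (hm : maximalIdeal O = Ideal.span (Set.range p)) : maximalIdeal O ≤ I := by
  have hsq : maximalIdeal O ^ 2 ≤ maximalIdeal O := Ideal.pow_le_self two_ne_zero
  have key : ∀ i, p i ∈ I ⊔ maximalIdeal O ^ 2 := by
    intro i
    have hFm : ∀ j, F j (v i) ∈ maximalIdeal O := by
      intro j
      by_cases hij : i = j
      · subst hij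
        have := (maximalIdeal O).add_mem (hsq (hv1 i)) (hp i)
        rwa [sub_add_cancel] at this
      · exact hsq (hv2 i j hij)
    obtain ⟨c, hc1, hcm, hc2⟩ := exists_sol (Matrix.of fun j r => F j (e r)) he1
      (fun a b hab => he2 b a hab.symm) (fun j => F j (v i)) hFm
    have h1 := hI (v i) c hc1
    rw [hvε, map_zero, zero_sub, neg_mem_iff, ← Finset.add_sum_erase _ _ (Finset.mem_univ i)] at h1
    have h2 : ∀ j, i ≠ j → c j ∈ maximalIdeal O ^ 2 := by
      intro j hij
      have h3 : c j * F j (e j) ∈ maximalIdeal O ^ 2 := by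
        have := (maximalIdeal O ^ 2).sub_mem (hv2 i j hij) (hc2 j)
        rwa [Matrix.of_apply, sub_sub_cancel] at this
      obtain ⟨u, hu⟩ := he1 j
      rw [← hu] at h3
      have h4 := (maximalIdeal O ^ 2).mul_mem_right (↑u⁻¹ : O) h3
      rwa [mul_assoc, Units.mul_inv, mul_one] at h4
    have h5 : c i * κ (ε (e i)) ∈ I ⊔ maximalIdeal O ^ 2 := by
      have h6 : ∑ r ∈ Finset.univ.erase i, c r * κ (ε (e r)) ∈ maximalIdeal O ^ 2 :=
        Ideal.sum_mem _ fun r hr =>
          Ideal.mul_mem_right _ _ (h2 r (Finset.ne_of_mem_erase hr).symm)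
      have h7 := (I ⊔ maximalIdeal O ^ 2).sub_mem (Ideal.mem_sup_left h1) (Ideal.mem_sup_right h6)
      rwa [add_sub_cancel_right] at h7
    have h8 : c i ∈ I ⊔ maximalIdeal O ^ 2 := by
      have h9 := (I ⊔ maximalIdeal O ^ 2).mul_mem_right (κ (ε (e i))⁻¹) h5
      rwa [mul_assoc, ← map_mul, mul_inv_cancel₀ (heε i), map_one, mul_one] at h9
    have h10 : F i (v i) ∈ I ⊔ maximalIdeal O ^ 2 := by
      have h11 := (I ⊔ maximalIdeal O ^ 2).add_mem (Ideal.mem_sup_right (hc2 i))
        ((I ⊔ maximalIdeal O ^ 2).mul_mem_right (F i (e i)) h8)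
      rwa [Matrix.of_apply, sub_add_cancel] at h11
    have h12 := (I ⊔ maximalIdeal O ^ 2).sub_mem h10 (Ideal.mem_sup_right (hv1 i))
    rwa [sub_sub_cancel] at h12
  have h1 : maximalIdeal O ≤ I ⊔ maximalIdeal O • maximalIdeal O := by
    have h2 : maximalIdeal O • maximalIdeal O = maximalIdeal O ^ 2 := by
      rw [smul_eq_mul, pow_two]
    rw [h2]
    conv_lhs => rw [hm]
    rw [Ideal.span_le]
    rintro _ ⟨i, rfl⟩
    exact key i
  exact Submodule.le_of_le_smul_of_le_jacobson_bot (IsNoetherian.noetherian _)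
    (IsLocalRing.maximalIdeal_le_jacobson _) h1

section lam

variable {k A : Type*} [Field k] [CommRing A] [IsDomain A] [IsLocalRing A]
  (κ : k →+* A) (hκ : ∀ a : A, ∃ c : k, a - κ c ∈ maximalIdeal A) {π : A}
  (hπ : maximalIdeal A = Ideal.span {π}) (hπ0 : π ≠ 0)

include hπ hπ0 in
theorem unif_notMem_sq : π ∉ maximalIdeal A ^ 2 := by
  intro h
  rw [hπ, Ideal.span_singleton_pow, Ideal.mem_span_singleton] at h
  obtain ⟨b, hb⟩ := h
  have h1 : π * (1 - π * b) = 0 := by
    linear_combination hb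
  rcases mul_eq_zero.1 h1 with h2 | h2
  · exact hπ0 h2
  · have h3 : IsUnit π := IsUnit.of_mul_eq_one b (sub_eq_zero.1 h2).symm
    have h4 : π ∈ maximalIdeal A := by
      rw [hπ]
      exact Ideal.mem_span_singleton_self π
    exact (mem_maximalIdeal _).1 h4 h3

omit [IsDomain A] in
include hκ hπ in
theorem exists_coeff {f : A} (hf : f ∈ maximalIdeal A) : ∃ c : k, f - κ c * π ∈ maximalIdeal A ^ 2 := by
  rw [hπ, Ideal.mem_span_singleton] at hf
  obtain ⟨g, rfl⟩ := hf
  obtain ⟨c, hc⟩ := hκ g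
  refine ⟨c, ?_⟩
  have h1 : π * g - κ c * π = π * (g - κ c) := by ring
  rw [h1, pow_two]
  refine Ideal.mul_mem_mul ?_ hc
  rw [hπ]
  exact Ideal.mem_span_singleton_self π

include hπ hπ0 in
theorem coeff_unique {f : A} {c c' : k} (hc : f - κ c * π ∈ maximalIdeal A ^ 2)
    (hc' : f - κ c' * π ∈ maximalIdeal A ^ 2) : c = c' := by
  by_contra hne
  have h1 : κ (c' - c) * π ∈ maximalIdeal A ^ 2 := by
    have h2 := (maximalIdeal A ^ 2).sub_mem hc hc'
    rw [map_sub]
    have h3 : (κ c' - κ c) * π = f - κ c * π - (f - κ c' * π) := by ring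
    rw [h3]
    exact h2
  have h4 := (maximalIdeal A ^ 2).mul_mem_left (κ (c' - c)⁻¹) h1
  rw [← mul_assoc, ← map_mul, inv_mul_cancel₀ (sub_ne_zero.2 (Ne.symm hne)), map_one, one_mul] at h4
  exact unif_notMem_sq hπ hπ0 h4

/-- The first order coefficient of a linear map to the maximal ideal. -/
theorem exists_lam {V : Type*} [AddCommGroup V] [Module k V] (φ : V → A)
    (hadd : ∀ v w, φ (v + w) = φ v + φ w) (hsmul : ∀ (c : k) v, φ (c • v) = κ c * φ v)
    (hφ : ∀ v, φ v ∈ maximalIdeal A) (hκ : ∀ a : A, ∃ c : k, a - κ c ∈ maximalIdeal A)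
    (hπ : maximalIdeal A = Ideal.span {π}) (hπ0 : π ≠ 0) :
    ∃ lam : V →ₗ[k] k, ∀ v, φ v - κ (lam v) * π ∈ maximalIdeal A ^ 2 := by
  choose c hc using fun v => exists_coeff κ hκ hπ (hφ v)
  refine ⟨{ toFun := c, map_add' := fun v w => ?_, map_smul' := fun a v => ?_ }, hc⟩
  · refine coeff_unique κ hπ hπ0 (hc (v + w)) ?_
    have h1 : φ (v + w) - κ (c v + c w) * π = (φ v - κ (c v) * π) + (φ w - κ (c w) * π) := by
      rw [hadd, map_add]
      ring
    rw [h1]
    exact Ideal.add_mem _ (hc v) (hc w)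
  · refine coeff_unique κ hπ hπ0 (hc (a • v)) ?_
    have h1 : φ (a • v) - κ (a • c v) * π = κ a * (φ v - κ (c v) * π) := by
      rw [hsmul, smul_eq_mul, map_mul]
      ring
    rw [RingHom.id_apply, h1]
    exact Ideal.mul_mem_left _ _ (hc v)

end lam

end K363.LocAlg
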