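import Groth.Agent.VBCurve.K553.SubDefs2
import Groth.Agent.CycB.ModStalk

/-!
# Germs of sections at closed points of a curve in terms of a generator (S15230, SUB-LOC)
-/

set_option autoImplicit false
universe u
open CategoryTheory CategoryTheory.Limits AlgebraicGeometry

namespace K363.LocCoef

open Groth.Agent.CycB.StalkExact Groth.Agent.CycB.ModStalk IsLocalRing

section gen

variable {X : Scheme.{u}}

/-- membership in `I • M_x` in terms of a generator -/
theorem mem_smul_top_iff {M : X.Modules} {x : X} {ν : M.presheaf.stalk x} (hν : IsGen M x ν)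
    (I : Ideal (X.presheaf.stalk x)) (a : X.presheaf.stalk x) :
    a • ν ∈ I • (⊤ : Submodule (X.presheaf.stalk x) (M.presheaf.stalk x)) ↔ a ∈ I := by
  rw [← hν.span_eq_top, Submodule.mem_smul_span_singleton]
  constructor
  · rintro ⟨b, hb, h⟩
    rwa [← hν.1 h]
  · exact fun h => ⟨a, h, rfl⟩

/-- The germ `1` generates the stalk of the structure sheaf. -/
theorem span_one (x : X) : Submodule.span (X.presheaf.stalk x)
    {(Coh.structureModule X).presheaf.germ ⊤ x trivial (1 : Γ(X, ⊤))} = ⊤ := by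
  rw [eq_top_iff]
  rintro y -
  obtain ⟨U, hU, s, rfl⟩ := TopCat.Presheaf.exists_germ_eq (Coh.structureModule X).presheaf y
  rw [Submodule.mem_span_singleton]
  refine ⟨X.presheaf.germ U x hU s, ?_⟩
  have h1 : (Coh.structureModule X).presheaf.germ ⊤ x trivial (1 : Γ(X, ⊤)) =
      (Coh.structureModule X).presheaf.germ U x hU (1 : Γ(X, U)) := by
    have h2 := TopCat.Presheaf.germ_res_apply (Coh.structureModule X).presheaf (homOfLE (le_top : U ≤ ⊤)) x hU
      (1 : Γ(X, ⊤))
    rw [← h2]
    refine congrArg _ ?_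
    exact map_one (X.presheaf.map (homOfLE (le_top : U ≤ ⊤)).op).hom
  rw [h1]
  refine (Groth.Agent.CycB.StalkExact.germ_smul x hU s _).symm.trans ?_
  refine congrArg _ ?_
  exact (mul_one : ∀ s' : Γ(X, U), s' * 1 = s') s

end gen

section ov

variable {k : Type u} [Field k] {X : Scheme.{u}} [X.Over (Spec (CommRingCat.of k))] {N : X.Modules}

/-- The germ at `c` of the section `v`. -/
noncomputable def ge (c : X) (v : Coh.structureModule X ⟶ N) :
    N.presheaf.stalk c := N.presheaf.germ ⊤ c trivial (v.app ⊤ (1 : Γ(X, ⊤)))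

theorem ge_add (c : X) (v w : Coh.structureModule X ⟶ N) : ge c (v + w) = ge c v + ge c w :=
  map_add (N.presheaf.germ ⊤ c trivial).hom _ _

theorem ge_smul (c : X) (a : k) (v : Coh.structureModule X ⟶ N) :
    ge c (a • v) = Curv2.stalkMap k X c a • ge c v := by
  refine (congrArg _ (KLin.smul_app_apply a v ⊤ (1 : Γ(X, ⊤)))).trans ?_
  refine (Groth.Agent.CycB.StalkExact.germ_smul c (U := ⊤) trivial _ _).trans ?_
  refine congrArg (fun b => b • ge c v) ?_
  have h1 : X.presheaf.map (homOfLE (le_top : (⊤ : X.Opens) ≤ ⊤)).op = 𝟙 _ := X.presheaf.map_id _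
  rw [h1]
  rfl

theorem ge_comp {M : X.Modules} (c : X) (v : Coh.structureModule X ⟶ N) (f : N ⟶ M) :
    stalkLin f c (ge c v) = ge c (v ≫ f) :=
  stalkLin_germ f c (U := ⊤) trivial _

/-- The coefficient of the germ of a section with respect to a generator. -/
theorem exists_coef {c : X} {ν : N.presheaf.stalk c} (hν : IsGen N c ν) :
    ∃ φ : (Coh.structureModule X ⟶ N) → X.presheaf.stalk c, (∀ v, ge c v = φ v • ν) ∧
      (∀ v w, φ (v + w) = φ v + φ w) ∧ ∀ (a : k) v, φ (a • v) = Curv2.stalkMap k X c a * φ v := by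
  choose φ hφ using fun v => hν.2 (ge c v)
  refine ⟨φ, fun v => (hφ v).symm, fun v w => hν.1 ?_, fun a v => hν.1 ?_⟩
  · dsimp only at hφ ⊢
    rw [hφ, ge_add, add_smul, hφ, hφ]
  · dsimp only at hφ ⊢
    rw [hφ, ge_smul, mul_smul, hφ]

end ov

end K363.LocCoef
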