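import Groth.Agent.VBCurve.K363.LocGeOf
import Groth.Agent.VBCurve.K427.SubVan
import Groth.Agent.VBCurve.K405.SubEv
import Groth.Agent.Dcoh.DerSch
import Groth.Agent.VBCurve.K433.SubRank
import Groth.Agent.VBCurve.K587.TowerAux

/-!
# The image of `K N l ⟶ O` at a nondegenerate zero (S15230, SUB-LOC2)
-/

set_option autoImplicit false
universe u
open CategoryTheory CategoryTheory.Limits AlgebraicGeometry

namespace K553.Sub

variable {k : Type u} [Field k] [IsAlgClosed k] (C : Over (Spec (CommRingCat.of k)))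
  [IsIntegral C.left] [IsProper C.hom] [Smooth C.hom] (hdim : topologicalKrullDim C.left = 1)
  {g : ℕ} (hgen : Curv2.genus k C.left = g) {n : ℕ} (hgn : g ≤ n)
  {N : C.left.Modules} (hN : PicF.IsInvertible N) (hd : Curv2.deg k C.left N 1 = 2 * (n : ℤ) - 1 + g)
  (ε : (Coh.structureModule C.left ⟶ N) →ₗ[k] k)

include hdim hgen hgn hN hd in
theorem loc_ge (e : K N ([] : List (Pw C n ⟶ C)) ⟶ Coh.structureModule (Pw C n).left)
    (he : ∀ v : Coh.structureModule C.left ⟶ N, sec v ≫ e = (ε v) • 𝟙 (Coh.structureModule (Pw C n).left))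
    (t : pt (Spec (CommRingCat.of k)) ⟶ Pw C n)
    (h : IsZ ε (pts fun i => t ≫ crd C n i))
    (hinj : Function.Injective fun i => t ≫ crd C n i)
    (hmin : ∀ (c : pt (Spec (CommRingCat.of k)) ⟶ C) (l : List (pt (Spec (CommRingCat.of k)) ⟶ C)),
      (pts fun i => t ≫ crd C n i).Perm (c :: l) → ¬ IsZ ε l)
    (hdbl : ∀ v : Coh.structureModule C.left ⟶ N,
      Van N ((pts fun i => t ≫ crd C n i) ++ (pts fun i => t ≫ crd C n i)) v → v = 0) :
    IsLocalRing.maximalIdeal ((Pw C n).left.presheaf.stalk (atp t)) •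
        (⊤ : Submodule ((Pw C n).left.presheaf.stalk (atp t))
          ((Coh.structureModule (Pw C n).left).presheaf.stalk (atp t))) ≤
      LinearMap.range (Groth.Agent.CycB.StalkExact.stalkLin (Kι N (cl C n n) ≫ e) (atp t)) := by
  have hint : IsIntegral (Pw C n).left := isIntegral_Pw C hdim n
  have hprop : IsProper (Pw C n).hom := (smooth_Pw C n).2
  have hinj' : HasInjectiveResolutions (TX C (Pw C n)).left.Modules :=
    Groth.Agent.Dcoh.DerSch.hasInjectiveResolutions _
  exact K363.LocGe.loc_ge_of C hdim hgn hN hd ε (fun x _ v => van_iff C hdim N hN x v)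
    (fun x => ⟨(finrank_vanSub C hdim hgen N hN x).1, (finrank_vanSub C hdim hgen N hN x).2.2⟩)
    (fun l z hl => K587.Tower.exists_tower_of C hdim hN l z
      (K433.SubRank.isZero_Rpush C hdim hgen hN (z :: l) hl 1 le_rfl)) (fun v y => sec_ev C v y) e he t h hinj hmin hdbl

end K553.Sub
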