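import Groth.Agent.VBCurve.K569.SubInv
import Groth.Agent.VBCurve.K553.SubDefs2
import Groth.Agent.PerfB.TensInv
import Groth.Agent.Grpsch.PicGrp

/-!
# Injectivity of `tw N l y ⟶ y^* N` (S15230, SUB-LOC)
-/

set_option autoImplicit false
universe u
open CategoryTheory CategoryTheory.Limits AlgebraicGeometry

namespace K363.LocMono

open Groth.Agent
open scoped Groth.Agent.Dcoh.MonCat
open MonoidalCategory

theorem mono_whiskerRight {X : Scheme.{u}} {L : X.Modules} (hL : PicF.IsInvertible L) {M N : X.Modules}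
    (f : M ⟶ N) [Mono f] : Mono (f ▷ L) := by
  obtain ⟨L', hL', ⟨e⟩⟩ := Grpsch.PicGrp.exists_inverse hL
  have : (DCoh.tensorRightMod L).IsEquivalence :=
    inferInstanceAs (CategoryTheory.Equivalence.mk (DCoh.tensorRightMod L) (DCoh.tensorRightMod L')
      (PerfB.TensInv.tensorInvIso e).symm
      (PerfB.TensInv.tensorInvIso (Ega2.Tens.swap L' L ≪≫ e))).functor.IsEquivalence
  exact inferInstanceAs (Mono ((DCoh.tensorRightMod L).map f))

open K553.Sub

section

variable {k : Type u} [Field k] [IsAlgClosed k] (C : Over (Spec (CommRingCat.of k)))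
  [IsIntegral C.left] [IsProper C.hom] [Smooth C.hom] (hdim : topologicalKrullDim C.left = 1)

include hdim in
theorem mono_twι {T : Over (Spec (CommRingCat.of k))} (N : C.left.Modules) (hN : PicF.IsInvertible N)
    (l : List (T ⟶ C)) (y : T ⟶ C) (h : ∀ z ∈ l, Mono (Dι z y)) : Mono (twι N l y) := by
  induction l with
  | nil => exact inferInstanceAs (Mono (𝟙 _))
  | cons z l ih =>
    have h1 : Mono (twι N l y) := ih fun z' hz' => h z' (List.mem_cons_of_mem _ hz')
    have h2 : Mono (Dι z y) := h z List.mem_cons_self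
    have h3 : Mono (Dι z y ▷ tw N l y : D z y ⊗ tw N l y ⟶ 𝟙_ T.left.Modules ⊗ tw N l y) :=
      mono_whiskerRight (isInvertible_tw C hdim N hN l y) (Dι z y)
    have h4 : Mono (twπ N z l y) := @mono_comp _ _ _ _ _ _ h3 _ inferInstance
    exact mono_comp _ _

end

end K363.LocMono
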