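import Groth.Agent.VBCurve.K979.ClEq
import Groth.Agent.VBCurve.K363.LocMono
import Groth.Agent.VBCurve.K987.SubProd2
import Groth.Agent.VBCurve.K226.Pow

/-!
# Germs of `K N []` killed by the restrictions to the graphs (S15230, SUB-LOC)
-/

set_option autoImplicit false
universe u
open CategoryTheory CategoryTheory.Limits AlgebraicGeometry

namespace K363.LocKer

open Groth.Agent.CycB.StalkExact K553.Sub

variable {k : Type u} [Field k] [IsAlgClosed k] (C : Over (Spec (CommRingCat.of k)))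
  [IsIntegral C.left] [IsProper C.hom] [Smooth C.hom] (hdim : topologicalKrullDim C.left = 1)
  {g : ℕ} {n : ℕ} (hgn : g ≤ n)
  {N : C.left.Modules} (hN : PicF.IsInvertible N) (hd : Curv2.deg k C.left N 1 = 2 * (n : ℤ) - 1 + g)

omit [IsAlgClosed k] [IsIntegral C.left] [IsProper C.hom] [Smooth C.hom] in
theorem length_cl (n i : ℕ) (hi : i ≤ n) : (cl C n i).length = i := by
  induction i with
  | zero => rfl
  | succ i ih =>
    have h1 : i < n := hi
    have h2 : cl C n (i + 1) = crd C n ⟨i, h1⟩ :: cl C n i := by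
      simp only [cl, h1, dif_pos]
    rw [h2, List.length_cons, ih h1.le]

omit [IsAlgClosed k] [IsIntegral C.left] [IsProper C.hom] [Smooth C.hom] in
theorem mem_cl (n i : ℕ) {z : Pw C n ⟶ C} (hz : z ∈ cl C n i) : ∃ j : Fin n, (j : ℕ) < i ∧ z = crd C n j := by
  induction i with
  | zero => exact absurd hz (by simp [cl])
  | succ i ih =>
    by_cases h1 : i < n
    · have h2 : cl C n (i + 1) = crd C n ⟨i, h1⟩ :: cl C n i := by
        simp only [cl, h1, dif_pos]
      rw [h2, List.mem_cons] at hz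
      rcases hz with rfl | hz
      · exact ⟨⟨i, h1⟩, Nat.lt_succ_self i, rfl⟩
      · obtain ⟨j, hj, rfl⟩ := ih hz
        exact ⟨j, hj.trans (Nat.lt_succ_self i), rfl⟩
    · have h2 : cl C n (i + 1) = cl C n i := by
        simp only [cl, h1, dif_neg, not_false_iff]
      rw [h2] at hz
      obtain ⟨j, hj, rfl⟩ := ih hz
      exact ⟨j, hj.trans (Nat.lt_succ_self i), rfl⟩

omit [IsAlgClosed k] [IsIntegral C.left] [IsProper C.hom] [Smooth C.hom] in
theorem Kι_cons {T : Over (Spec (CommRingCat.of k))} (N : C.left.Modules) (z : T ⟶ C) (l : List (T ⟶ C)) :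
    Kι N (z :: l) = Kπ N z l ≫ Kι N l :=
  (Coh.push (pr C T).left).map_comp _ _

include hdim hgn hN hd in
theorem mem_range_Kι (htower : ∀ (l : List (Pw C n ⟶ C)) (z : Pw C n ⟶ C),
      2 * (g : ℤ) - 1 ≤ Curv2.deg k C.left N 1 - (z :: l).length →
      ∃ (b : K N l ⟶ tw N l z) (w : Kπ N z l ≫ b = 0), (ShortComplex.mk _ _ w).ShortExact ∧
        b ≫ twι N l z = Kι N l ≫ ev N z)
    (t : (Pw C n).left) (s : (K N ([] : List (Pw C n ⟶ C))).presheaf.stalk t) (i : ℕ) (hi : i ≤ n)
    (h : ∀ j : Fin n, (j : ℕ) < i → stalkLin (ev N (crd C n j)) t s = 0) :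
    ∃ s', stalkLin (Kι N (cl C n i)) t s' = s := by
  induction i with
  | zero =>
    refine ⟨s, ?_⟩
    have h1 : Kι N (cl C n 0) = 𝟙 _ := (Coh.push (pr C (Pw C n)).left).map_id _
    rw [h1]
    exact LinearMap.congr_fun (stalkLin_id _ t) s
  | succ i ih =>
    have hi' : i < n := hi
    obtain ⟨s', rfl⟩ := ih hi'.le fun j hj => h j (hj.trans (Nat.lt_succ_self i))
    have h2 : cl C n (i + 1) = crd C n ⟨i, hi'⟩ :: cl C n i := by
      simp only [cl, hi', dif_pos]
    obtain ⟨b, w, hS, hb⟩ := htower (cl C n i) (crd C n ⟨i, hi'⟩) (by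
      rw [List.length_cons, length_cl C n i hi'.le, hd]
      push_cast
      omega)
    have hm : Mono (twι N (cl C n i) (crd C n ⟨i, hi'⟩)) := by
      refine LocMono.mono_twι C hdim N hN _ _ fun z hz => ?_
      obtain ⟨j, hj, rfl⟩ := mem_cl C n i hz
      refine mono_Dι_crd C hdim n j ⟨i, hi'⟩ fun hj' => ?_
      rw [hj'] at hj
      exact lt_irrefl _ hj
    have h3 : stalkLin (twι N (cl C n i) (crd C n ⟨i, hi'⟩)) t (stalkLin b t s') = 0 := by
      have h4 := h ⟨i, hi'⟩ (Nat.lt_succ_self i)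
      have h5 := congrArg (fun q => stalkLin q t s') hb
      rw [stalkLin_comp, stalkLin_comp] at h5
      exact h5.trans h4
    have h6 : stalkLin b t s' = 0 := (map_eq_zero_iff _ (stalkLin_injective _ t)).1 h3
    obtain ⟨s'', hs''⟩ := ((stalkLin_exact _ hS.exact t) s').1 h6
    rw [h2, Kι_cons]
    refine ⟨s'', ?_⟩
    rw [stalkLin_comp]
    exact congrArg (stalkLin (Kι N (cl C n i)) t) hs''

end K363.LocKer
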