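import Groth.Agent.VBCurve.K553.SubDefs2
import Groth.Agent.Fdesc.PullbackStalk
import Groth.Agent.CycB.ModStalk

/-!
# Germs of pulled back sections (S15230, SUB-LOC)
-/

set_option autoImplicit false
universe u
open CategoryTheory CategoryTheory.Limits AlgebraicGeometry

namespace K363.LocSec

open Groth.Agent.CycB.StalkExact Groth.Agent.Fdesc.PullbackStalk

section pull

variable {X Y : Scheme.{u}} (f : X ⟶ Y)

/-- The pullback of a global section. -/
theorem psec_one {N : Y.Modules} (v : Coh.structureModule Y ⟶ N) :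
    ((Groth.Agent.Krr.H482.PullTens.pullUnitIso f).inv ≫ (Scheme.Modules.pullback f).map v).app ⊤
        (1 : Γ(X, ⊤)) =
      ((Scheme.Modules.pullbackPushforwardAdjunction f).unit.app N).app ⊤ (v.app ⊤ (1 : Γ(Y, ⊤))) := by
  have h1 := (Scheme.Modules.pullbackPushforwardAdjunction f).unit.naturality v
  have h2 := ConcreteCategory.congr_hom (congrArg (fun q => Scheme.Modules.Hom.app q ⊤) h1)
    (1 : Γ(Y, ⊤))
  have h3 := ConcreteCategory.congr_hom (congrArg (fun q => Scheme.Modules.Hom.app q ⊤)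
    (Groth.Agent.Fga.UnitRestrict.unit_pullbackUnitHom f)) (1 : Γ(Y, ⊤))
  have h4 : (Groth.Agent.Fga.UnitRestrict.unitToPush f).app ⊤ (1 : Γ(Y, ⊤)) = (1 : Γ(X, f ⁻¹ᵁ ⊤)) :=
    map_one (f.app ⊤).hom
  have h5 : ((Scheme.Modules.pullbackPushforwardAdjunction f).unit.app (Coh.structureModule Y)).app ⊤
      (1 : Γ(Y, ⊤)) = (Groth.Agent.Krr.H482.PullTens.pullUnitIso f).inv.app ⊤ (1 : Γ(X, ⊤)) := by
    have h6 : (Groth.Agent.Krr.H482.PullTens.pullUnitIso f).hom.app ⊤
        (((Scheme.Modules.pullbackPushforwardAdjunction f).unit.app (Coh.structureModule Y)).app ⊤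
        (1 : Γ(Y, ⊤))) = (1 : Γ(X, ⊤)) := h3.trans h4
    rw [← h6]
    exact (ConcreteCategory.congr_hom (congrArg (fun q => Scheme.Modules.Hom.app q ⊤)
      (Groth.Agent.Krr.H482.PullTens.pullUnitIso f).hom_inv_id) _).symm
  have h7 : ((Scheme.Modules.pullback f).map v).app ⊤
      ((Groth.Agent.Krr.H482.PullTens.pullUnitIso f).inv.app ⊤ (1 : Γ(X, ⊤))) =
      ((Scheme.Modules.pullbackPushforwardAdjunction f).unit.app N).app ⊤ (v.app ⊤ (1 : Γ(Y, ⊤))) := by
    rw [← h5]
    exact h2.symm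
  exact h7

/-- The germ of the pullback of a global section. -/
theorem germ_psec_one {N : Y.Modules} (v : Coh.structureModule Y ⟶ N) (x : X) :
    ((Scheme.Modules.pullback f).obj N).presheaf.germ ⊤ x trivial
      (((Groth.Agent.Krr.H482.PullTens.pullUnitIso f).inv ≫ (Scheme.Modules.pullback f).map v).app ⊤
        (1 : Γ(X, ⊤))) =
      canAdd f N x (N.presheaf.germ ⊤ (f x) trivial (v.app ⊤ (1 : Γ(Y, ⊤)))) := by
  rw [psec_one]
  exact (canAdd_germ f N x ⊤ trivial _).symm

end pull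

end K363.LocSec
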