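import Groth.Agent.VBCurve.K363.LocAlg
import Groth.Agent.VBCurve.K363.LocSec
import Groth.Agent.VBCurve.K363.LocKer
import Groth.Agent.VBCurve.K363.LocCoef
import Groth.Agent.CurvesA.CurveDvr
import Groth.Agent.Curves.K830.CurveStalk

/-!
# The image of `K N l ⟶ O` at a nondegenerate zero (S15230, SUB-LOC2)

`loc_ge_of`: the statement `K553.Sub.loc_ge`, from the tower (SUB-TOWER), `sec_ev` (SUB-FREE), `van_iff` and
`finrank_vanSub` (SUB-VAN).
-/

set_option autoImplicit false
universe u
open CategoryTheory CategoryTheory.Limits AlgebraicGeometry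

namespace K363.LocGe

open Groth.Agent.CycB.StalkExact Groth.Agent.CycB.ModStalk IsLocalRing K553.Sub K363.LocCoef
open Groth.Agent.Fdesc.PullbackStalk

section list

variable {α : Type*} [DecidableEq α] {n : ℕ} (x : Fin n → α) (hx : Function.Injective x)

include hx in
theorem count_ofFn (j : Fin n) : (List.ofFn x).reverse.count (x j) = 1 := by
  rw [List.count_reverse]
  exact List.count_eq_one_of_mem (List.nodup_ofFn.2 hx) (List.mem_ofFn.2 ⟨j, rfl⟩)

theorem count_ofFn_of_notMem {c : α} (hc : c ∉ Set.range x) : (List.ofFn x).reverse.count c = 0 := by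
  rw [List.count_reverse, List.count_eq_zero, List.mem_ofFn]
  exact hc

end list

variable {k : Type u} [Field k] [IsAlgClosed k] (C : Over (Spec (CommRingCat.of k)))
  [IsIntegral C.left] [IsProper C.hom] [Smooth C.hom] (hdim : topologicalKrullDim C.left = 1)
  {g : ℕ} {n : ℕ} (hgn : g ≤ n)
  {N : C.left.Modules} (hN : PicF.IsInvertible N) (hd : Curv2.deg k C.left N 1 = 2 * (n : ℤ) - 1 + g)
  (ε : (Coh.structureModule C.left ⟶ N) →ₗ[k] k)

/-- the sections vanishing on `∑ x`, as a subspace -/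
noncomputable def vS (N : C.left.Modules) (x : List (pt (Spec (CommRingCat.of k)) ⟶ C)) :
    Submodule k (Coh.structureModule C.left ⟶ N) where
  carrier := {v | Van N x v}
  zero_mem' := ⟨0, zero_comp⟩
  add_mem' := by
    rintro _ _ ⟨w, rfl⟩ ⟨w', rfl⟩
    exact ⟨w + w', Preadditive.add_comp _ _ _ _ _ _⟩
  smul_mem' := by
    rintro c _ ⟨w, rfl⟩
    exact ⟨c • w, Linear.smul_comp _ _ _ _ _ _⟩

/-- Conclusion of `van_iff`. -/
def VanIff (N : C.left.Modules) : Prop :=
  ∀ (x : List (pt (Spec (CommRingCat.of k)) ⟶ C)) [DecidableEq (pt (Spec (CommRingCat.of k)) ⟶ C)]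
    (v : Coh.structureModule C.left ⟶ N),
    Van N x v ↔ ∀ c : pt (Spec (CommRingCat.of k)) ⟶ C,
      ge (atp c) v ∈ IsLocalRing.maximalIdeal (C.left.presheaf.stalk (atp c)) ^ (x.count c) •
        (⊤ : Submodule (C.left.presheaf.stalk (atp c)) (N.presheaf.stalk (atp c)))

/-- Conclusion of `finrank_vanSub`. -/
def RkVan (g : ℕ) (N : C.left.Modules) : Prop :=
  ∀ (x : List (pt (Spec (CommRingCat.of k)) ⟶ C)),
    Module.Finite k (Coh.structureModule C.left ⟶ N) ∧
    (2 * (g : ℤ) - 1 ≤ Curv2.deg k C.left N 1 - x.length →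
      (Module.finrank k (vS C N x) : ℤ) = Curv2.deg k C.left N 1 - x.length + 1 - g)

omit [IsAlgClosed k] [IsIntegral C.left] [IsProper C.hom] [Smooth C.hom] in
theorem van_iff' (hvi : VanIff C N) {n : ℕ} (x : Fin n → (pt (Spec (CommRingCat.of k)) ⟶ C))
    (ν : ∀ j, N.presheaf.stalk (atp (x j))) (hν : ∀ j, IsGen N (atp (x j)) (ν j))
    (φ : ∀ j, (Coh.structureModule C.left ⟶ N) → C.left.presheaf.stalk (atp (x j)))
    (hφ : ∀ j v, ge (atp (x j)) v = φ j v • ν j)
    [DecidableEq (pt (Spec (CommRingCat.of k)) ⟶ C)]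
    (l : List (pt (Spec (CommRingCat.of k)) ⟶ C)) (m : Fin n → ℕ) (h1 : ∀ j, l.count (x j) = m j)
    (h2 : ∀ c, c ∉ Set.range x → l.count c = 0) (v : Coh.structureModule C.left ⟶ N) :
    Van N l v ↔ ∀ j, φ j v ∈ maximalIdeal (C.left.presheaf.stalk (atp (x j))) ^ m j := by
  rw [hvi l v]
  constructor
  · intro h j
    have h3 := h (x j)
    rw [h1] at h3
    have h4 := hφ j v
    rw [h4, mem_smul_top_iff (hν j)] at h3
    exact h3
  · intro h c
    by_cases hc : c ∈ Set.range x
    · obtain ⟨j, rfl⟩ := hc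
      have h4 := hφ j v
      rw [h1, h4, mem_smul_top_iff (hν j)]
      exact h j
    · rw [h2 c hc, pow_zero, Ideal.one_eq_top, Submodule.top_smul]
      trivial

include hdim in
theorem exists_unif (c : pt (Spec (CommRingCat.of k)) ⟶ C) :
    ∃ π : C.left.presheaf.stalk (atp c), maximalIdeal (C.left.presheaf.stalk (atp c)) = Ideal.span {π} ∧ π ≠ 0 := by
  have h1 : IsDiscreteValuationRing (C.left.presheaf.stalk (atp c)) :=
    Groth.Agent.CurvesA.CurveDvr.isDiscreteValuationRing_stalk C.hom hdim.le _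
      ((Groth.Agent.CurvesA.CurveDvr.isClosed_singleton_iff hdim _).1 (isClosed_atp c))
  obtain ⟨π, hπ⟩ := IsDiscreteValuationRing.exists_irreducible (C.left.presheaf.stalk (atp c))
  exact ⟨π, hπ.maximalIdeal_eq, hπ.ne_zero⟩

omit [IsAlgClosed k] [IsIntegral C.left] [IsProper C.hom] [Smooth C.hom] in
/-- The value of a section at a point of the power. -/
theorem stalkLin_ev_gsec {T : Over (Spec (CommRingCat.of k))} (y : T ⟶ C) (t : T.left)
    (v : Coh.structureModule C.left ⟶ N) (hse : sec v ≫ ev N y = psec y v) :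
    stalkLin (ev N y) t (gsec t v) = canAdd y.left N t (ge (y.left t) v) := by
  refine (stalkLin_germ (ev N y) t (U := ⊤) trivial _).trans ?_
  have h1 : (ev N y).app ⊤ ((sec v).app ⊤ (1 : Γ(T.left, ⊤))) = (psec y v).app ⊤ (1 : Γ(T.left, ⊤)) := by
    rw [← hse]
    rfl
  rw [h1]
  exact K363.LocSec.germ_psec_one y.left v t

omit [IsAlgClosed k] [IsIntegral C.left] [IsProper C.hom] [Smooth C.hom] in
theorem stalkLin_eps_gsec {T : Over (Spec (CommRingCat.of k))} (e : K N ([] : List (T ⟶ C)) ⟶ Coh.structureModule T.left)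
    (he : ∀ v : Coh.structureModule C.left ⟶ N, sec v ≫ e = (ε v) • 𝟙 (Coh.structureModule T.left)) (t : T.left)
    (v : Coh.structureModule C.left ⟶ N) :
    stalkLin e t (gsec t v) = Curv2.stalkMap k T.left t (ε v) •
      (Coh.structureModule T.left).presheaf.germ ⊤ t trivial (1 : Γ(T.left, ⊤)) := by
  refine (ge_comp t (sec v) e).trans ?_
  rw [he, ge_smul]
  rfl

include hgn hd in
/-- Sections vanishing on `∑ x` with prescribed first order terms. -/
theorem exists_dual (hvi : VanIff C N) (hrkv : RkVan C g N) (x : Fin n → (pt (Spec (CommRingCat.of k)) ⟶ C)) (hinj : Function.Injective x)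
    (hdbl : ∀ v : Coh.structureModule C.left ⟶ N, Van N (pts x ++ pts x) v → v = 0)
    (ν : ∀ j, N.presheaf.stalk (atp (x j))) (hν : ∀ j, IsGen N (atp (x j)) (ν j))
    (φ : ∀ j, (Coh.structureModule C.left ⟶ N) → C.left.presheaf.stalk (atp (x j)))
    (hφ : ∀ j v, ge (atp (x j)) v = φ j v • ν j)
    (hadd : ∀ j v w, φ j (v + w) = φ j v + φ j w)
    (hsmul : ∀ j (a : k) v, φ j (a • v) = Curv2.stalkMap k C.left (atp (x j)) a * φ j v)
    (π : ∀ j, C.left.presheaf.stalk (atp (x j)))
    (hπ : ∀ j, maximalIdeal (C.left.presheaf.stalk (atp (x j))) = Ideal.span {π j}) (hπ0 : ∀ j, π j ≠ 0) :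
    ∃ v : Fin n → (Coh.structureModule C.left ⟶ N), (∀ i, Van N (pts x) (v i)) ∧
      (∀ i, φ i (v i) - π i ∈ maximalIdeal (C.left.presheaf.stalk (atp (x i))) ^ 2) ∧
      ∀ i j, i ≠ j → φ j (v i) ∈ maximalIdeal (C.left.presheaf.stalk (atp (x j))) ^ 2 := by
  classical
  have hvan : ∀ v, Van N (pts x) v ↔ ∀ j, φ j v ∈ maximalIdeal (C.left.presheaf.stalk (atp (x j))) := by
    intro v
    rw [van_iff' C hvi x ν hν φ hφ (pts x) (fun _ => 1) (fun j => count_ofFn x hinj j)
      (fun c hc => count_ofFn_of_notMem x hc) v]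
    simp only [pow_one]
  obtain ⟨hfin, hrk⟩ := hrkv (pts x)
  have hlen : (pts x).length = n := by simp [pts]
  have hrk' : Module.finrank k (vS C N (pts x)) = n := by
    have h1 := hrk (by rw [hlen, hd]; omega)
    rw [hlen, hd] at h1
    omega
  have hlam : ∀ j, ∃ lam : vS C N (pts x) →ₗ[k] k, ∀ v : vS C N (pts x),
      φ j v.1 - Curv2.stalkMap k C.left (atp (x j)) (lam v) * π j ∈
        maximalIdeal (C.left.presheaf.stalk (atp (x j))) ^ 2 := by
    intro j
    refine K363.LocAlg.exists_lam (Curv2.stalkMap k C.left (atp (x j))) (fun v : vS C N (pts x) => φ j v.1)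
      (fun v w => hadd j v.1 w.1) (fun c v => hsmul j c v.1) (fun v => (hvan v.1).1 v.2 j) ?_ (hπ j) (hπ0 j)
    have : LocallyOfFiniteType (C.left ↘ Spec (CommRingCat.of k)) := inferInstanceAs (LocallyOfFiniteType C.hom)
    exact K830.CurveStalk.exists_sub_mem k C.left (atp (x j)) (isClosed_atp (x j))
  choose lam hlam using hlam
  have hinj' : Function.Injective (LinearMap.pi lam) := by
    rw [← LinearMap.ker_eq_bot, LinearMap.ker_eq_bot']
    intro v hv
    have h1 : ∀ j, lam j v = 0 := fun j => congrFun hv j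
    have h2 : Van N (pts x ++ pts x) v.1 := by
      rw [van_iff' C hvi x ν hν φ hφ (pts x ++ pts x) (fun _ => 2) (fun j => by
        rw [List.count_append, pts, count_ofFn x hinj j]) (fun c hc => by
          rw [List.count_append, pts, count_ofFn_of_notMem x hc])]
      intro j
      have h3 := hlam j v
      rwa [h1, map_zero, zero_mul, sub_zero] at h3
    exact Subtype.ext (hdbl _ h2)
  have hsurj : Function.Surjective (LinearMap.pi lam) := by
    refine (LinearMap.injective_iff_surjective_of_finrank_eq_finrank ?_).1 hinj'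
    rw [hrk', Module.finrank_fin_fun]
  choose v hv using fun i => hsurj (Pi.single i (1 : k))
  have hv' : ∀ i j, lam j (v i) = Pi.single (M := fun _ => k) i (1 : k) j := fun i j => congrFun (hv i) j
  refine ⟨fun i => (v i).1, fun i => (v i).2, fun i => ?_, fun i j hij => ?_⟩
  · have h1 := hlam i (v i)
    rwa [hv', Pi.single_eq_same, map_one, one_mul] at h1
  · have h1 := hlam j (v i)
    rwa [hv', Pi.single_eq_of_ne hij.symm, map_zero, zero_mul, sub_zero] at h1

include hdim hgn hN hd in
/-- SUB-LOC2, with the inputs as hypotheses. -/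
theorem loc_ge_of (hvi : VanIff C N) (hrkv : RkVan C g N)
    (htower : ∀ (l : List (Pw C n ⟶ C)) (z : Pw C n ⟶ C),
      2 * (g : ℤ) - 1 ≤ Curv2.deg k C.left N 1 - (z :: l).length →
      ∃ (b : K N l ⟶ tw N l z) (w : Kπ N z l ≫ b = 0), (ShortComplex.mk _ _ w).ShortExact ∧
        b ≫ twι N l z = Kι N l ≫ ev N z)
    (hse : ∀ (v : Coh.structureModule C.left ⟶ N) (y : Pw C n ⟶ C), sec v ≫ ev N y = psec y v)
    (e : K N ([] : List (Pw C n ⟶ C)) ⟶ Coh.structureModule (Pw C n).left)
    (he : ∀ v : Coh.structureModule C.left ⟶ N, sec v ≫ e = (ε v) • 𝟙 (Coh.structureModule (Pw C n).left))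
    (t : pt (Spec (CommRingCat.of k)) ⟶ Pw C n)
    (h : IsZ ε (pts fun i => t ≫ crd C n i))
    (hinj : Function.Injective fun i => t ≫ crd C n i)
    (hmin : ∀ (c : pt (Spec (CommRingCat.of k)) ⟶ C) (l : List (pt (Spec (CommRingCat.of k)) ⟶ C)),
      (pts fun i => t ≫ crd C n i).Perm (c :: l) → ¬ IsZ ε l)
    (hdbl : ∀ v : Coh.structureModule C.left ⟶ N,
      Van N ((pts fun i => t ≫ crd C n i) ++ (pts fun i => t ≫ crd C n i)) v → v = 0) :
    IsLocalRing.maximalIdeal ((Pw C n).left.presheaf.stalk (atp t)) •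
        (⊤ : Submodule ((Pw C n).left.presheaf.stalk (atp t))
          ((Coh.structureModule (Pw C n).left).presheaf.stalk (atp t))) ≤
      LinearMap.range (Groth.Agent.CycB.StalkExact.stalkLin (Kι N (cl C n n) ≫ e) (atp t)) := by
  classical
  have hproper : IsProper (Pw C n).hom := (smooth_Pw C n).2
  have hnoeth : IsLocallyNoetherian (Pw C n).left := LocallyOfFiniteType.isLocallyNoetherian (Pw C n).hom
  let x : Fin n → (pt (Spec (CommRingCat.of k)) ⟶ C) := fun i => t ≫ crd C n i
  choose ν hν using fun j => exists_isGen hN (atp (x j))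
  choose φ hφ hadd hsmul using fun j => exists_coef (k := k) (hν j)
  choose π hπ hπ0 using fun j => exists_unif C hdim (x j)
  obtain ⟨v, hv, hv1, hv2⟩ := exists_dual C hgn hd hvi hrkv x hinj hdbl ν hν φ hφ hadd hsmul π hπ hπ0
  have hvan : ∀ v, Van N (pts x) v ↔ ∀ j, φ j v ∈ maximalIdeal (C.left.presheaf.stalk (atp (x j))) := by
    intro v
    rw [van_iff' C hvi x ν hν φ hφ (pts x) (fun _ => 1) (fun j => count_ofFn x hinj j)
      (fun c hc => count_ofFn_of_notMem x hc) v]
    simp only [pow_one]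
  -- the sections `w i`
  have hw : ∀ i, ∃ w : Coh.structureModule C.left ⟶ N, Van N ((pts x).erase (x i)) w ∧ ε w ≠ 0 := by
    intro i
    have hmem : x i ∈ pts x := by
      rw [pts, List.mem_reverse, List.mem_ofFn]
      exact ⟨i, rfl⟩
    have h1 := hmin (x i) ((pts x).erase (x i)) (List.perm_cons_erase hmem)
    simpa [IsZ] using h1
  choose w hw hwε using hw
  have hw' : ∀ i j, φ j (w i) ∈ maximalIdeal (C.left.presheaf.stalk (atp (x j))) ^ (if j = i then 0 else 1) := by
    intro i
    refine (van_iff' C hvi x ν hν φ hφ ((pts x).erase (x i)) (fun j => if j = i then 0 else 1) (fun j => ?_)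
      (fun c hc => ?_) (w i)).1 (hw i)
    · by_cases hji : j = i
      · subst hji
        rw [List.count_erase_self, if_pos rfl, pts, count_ofFn x hinj j]
      · rw [List.count_erase_of_ne (fun h' => hji (hinj h')), if_neg hji, pts, count_ofFn x hinj j]
    · rw [List.count_erase_of_ne (fun h' => hc ⟨i, h'.symm⟩), pts, count_ofFn_of_notMem x hc]
  have hw2 : ∀ i j, i ≠ j → φ j (w i) ∈ maximalIdeal (C.left.presheaf.stalk (atp (x j))) := by
    intro i j hij
    have h1 := hw' i j
    rwa [if_neg hij.symm, pow_one] at h1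
  have hw1 : ∀ i, IsUnit (φ i (w i)) := by
    intro i
    by_contra h1
    refine hwε i (h _ ((hvan _).2 fun j => ?_))
    by_cases hij : i = j
    · subst hij
      exact (mem_maximalIdeal _).2 h1
    · exact hw2 i j hij
  let κ := Curv2.stalkMap k (Pw C n).left (atp t)
  let one := (Coh.structureModule (Pw C n).left).presheaf.germ ⊤ (atp t) trivial (1 : Γ((Pw C n).left, ⊤))
  let σ : ∀ j : Fin n, C.left.presheaf.stalk (atp (x j)) →+* (Pw C n).left.presheaf.stalk (atp t) :=
    fun j => ((crd C n j).left.stalkMap (atp t)).hom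
  have hσ : ∀ j, ∀ a ∈ maximalIdeal (C.left.presheaf.stalk (atp (x j))),
      σ j a ∈ maximalIdeal ((Pw C n).left.presheaf.stalk (atp t)) := by
    intro j a ha
    have : IsLocalHom (σ j) := inferInstanceAs (IsLocalHom ((crd C n j).left.stalkMap (atp t)).hom)
    exact map_nonunit (σ j) a ha
  have hσ2 : ∀ j, ∀ a ∈ maximalIdeal (C.left.presheaf.stalk (atp (x j))) ^ 2,
      σ j a ∈ maximalIdeal ((Pw C n).left.presheaf.stalk (atp t)) ^ 2 := by
    intro j a ha
    have h1 : (maximalIdeal (C.left.presheaf.stalk (atp (x j)))).map (σ j) ≤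
        maximalIdeal ((Pw C n).left.presheaf.stalk (atp t)) := Ideal.map_le_iff_le_comap.2 (hσ j)
    have h2 := Ideal.mem_map_of_mem (σ j) ha
    rw [Ideal.map_pow] at h2
    exact Ideal.pow_right_mono h1 2 h2
  -- the values of the restrictions to the graphs
  have hev : ∀ j (v : Coh.structureModule C.left ⟶ N), stalkLin (ev N (crd C n j)) (atp t) (gsec (atp t) v) =
      σ j (φ j v) • canAdd (crd C n j).left N (atp t) (ν j) := by
    intro j v
    refine (stalkLin_ev_gsec C (crd C n j) (atp t) v (hse v _)).trans ?_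
    refine (congrArg (canAdd (crd C n j).left N (atp t)) (hφ j v)).trans ?_
    exact canAdd_smul (crd C n j).left N (atp t) (φ j v) (ν j)
  have heps : ∀ v : Coh.structureModule C.left ⟶ N, stalkLin e (atp t) (gsec (atp t) v) = κ (ε v) • one :=
    fun v => stalkLin_eps_gsec C ε e he (atp t) v
  let I : Ideal ((Pw C n).left.presheaf.stalk (atp t)) :=
    (LinearMap.range (stalkLin (Kι N (cl C n n) ≫ e) (atp t))).comap
      (LinearMap.toSpanSingleton ((Pw C n).left.presheaf.stalk (atp t)) _ one)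
  have hI : ∀ (u : Coh.structureModule C.left ⟶ N) (c : Fin n → (Pw C n).left.presheaf.stalk (atp t)),
      (∀ j, σ j (φ j u) = ∑ r, c r * σ j (φ j (w r))) → κ (ε u) - ∑ r, c r * κ (ε (w r)) ∈ I := by
    intro u c hc
    obtain ⟨s', hs'⟩ := LocKer.mem_range_Kι C hdim hgn hN hd htower (atp t)
      (gsec (atp t) u - ∑ r, c r • gsec (atp t) (w r)) n le_rfl (fun j _ => by
        rw [map_sub, map_sum, hev, hc j, Finset.sum_smul]
        simp only [map_smul, hev, mul_smul, sub_self])
    refine ⟨s', ?_⟩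
    rw [stalkLin_comp, LinearMap.comp_apply, hs', map_sub, map_sum, heps, LinearMap.toSpanSingleton_apply,
      sub_smul, Finset.sum_smul]
    simp only [map_smul, heps, mul_smul]
  have hle : maximalIdeal ((Pw C n).left.presheaf.stalk (atp t)) ≤ I := by
    refine K363.LocAlg.core κ (fun j u => σ j (φ j u)) ε w v I (fun j => σ j (π j)) hI
      (fun j => (hw1 j).map (σ j)) (fun i j hij => hσ j _ (hw2 i j hij)) hwε (fun i => h _ (hv i))
      (fun i => hσ i _ ?_) (fun i => ?_) (fun i j hij => hσ2 j _ (hv2 i j hij)) ?_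
    · rw [hπ i]
      exact Ideal.mem_span_singleton_self _
    · have h1 := hσ2 i _ (hv1 i)
      rwa [map_sub] at h1
    · rw [maximalIdeal_Pw C n t]
      refine le_antisymm (iSup_le fun i => ?_) ?_
      · have h2 : (maximalIdeal (C.left.presheaf.stalk (atp (x i)))).map (σ i) ≤
            Ideal.span (Set.range fun j => σ j (π j)) := by
          rw [hπ i, Ideal.map_span, Set.image_singleton, Ideal.span_le, Set.singleton_subset_iff]
          exact Ideal.subset_span ⟨i, rfl⟩
        exact h2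
      · rw [Ideal.span_le]
        rintro _ ⟨i, rfl⟩
        refine Ideal.mem_iSup_of_mem i (Ideal.mem_map_of_mem _ ?_)
        have h1 : maximalIdeal (C.left.presheaf.stalk ((crd C n i).left (atp t))) = Ideal.span {π i} := hπ i
        rw [h1]
        exact Ideal.mem_span_singleton_self _
  refine Submodule.smul_le.2 fun a ha y _ => ?_
  have hy : y ∈ Submodule.span ((Pw C n).left.presheaf.stalk (atp t)) {one} := by
    rw [span_one]
    trivial
  obtain ⟨b, rfl⟩ := Submodule.mem_span_singleton.1 hy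
  rw [← mul_smul]
  exact hle (Ideal.mul_mem_right b _ ha)

end K363.LocGe
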